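import Cfsg.Agent.Spor.McB.L.D0

set_option autoImplicit false
set_option maxRecDepth 100000000
set_option Elab.async false

namespace Cfsg.Agent.Spor.McB.L

theorem uok7 : Net.okb 9 un7 = true := by decide +kernel

theorem rel3 : U.rel 9 [15, 1, 9, 3, 14, 5, 7] 0 9 = true := by decide +kernel

theorem uok8 : Net.okb 9 un8 = true := by decide +kernel

theorem rel4 : U.rel 9 [17, 3, 5, 3, 5] 0 9 = true := by decide +kernel

theorem uok9 : Net.okb 9 un9 = true := by decide +kernel

theorem rel5 : U.rel 9 [19, 5, 9, 5, 11, 7, 9, 1, 9, 7, 11, 9] 0 9 = true := by decide +kernel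

theorem uok10 : Net.okb 9 un10 = true := by decide +kernel

theorem rel6 : U.rel 9 [21, 14, 3, 7, 11, 7, 9, 7, 11, 3, 7, 13] 0 9 = true := by decide +kernel

theorem uok11 : Net.okb 9 un11 = true := by decide +kernel

theorem rel7 : U.rel 9 [23, 9, 3, 13, 11, 9, 7, 11, 7, 9, 1, 11, 13] 0 9 = true := by decide +kernel

theorem uok12 : Net.okb 9 un12 = true := by decide +kernel

theorem rel8 : U.rel 9 [25, 11, 5, 9, 11, 7, 9, 5, 13, 7, 11, 9, 11] 0 9 = true := by decide +kernel

theorem rel9 : U.rel 9 [19, 19, 19] 0 9 = true := by decide +kernel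

theorem rel10 : U.rel 9 [20, 16, 19, 15] 0 9 = true := by decide +kernel

theorem rel11 : U.rel 9 [19, 17, 19, 17] 0 9 = true := by decide +kernel

theorem rel12 : U.rel 9 [21, 21, 21] 0 9 = true := by decide +kernel

theorem rel13 : U.rel 9 [22, 16, 21, 15] 0 9 = true := by decide +kernel

theorem rel14 : U.rel 9 [21, 17, 21, 17] 0 9 = true := by decide +kernel

theorem rel15 : U.rel 9 [23, 23, 23] 0 9 = true := by decide +kernel

theorem rel16 : U.rel 9 [24, 16, 23, 15] 0 9 = true := by decide +kernel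

theorem rel17 : U.rel 9 [23, 17, 23, 17] 0 9 = true := by decide +kernel

theorem rel18 : U.rel 9 [25, 25, 25] 0 9 = true := by decide +kernel

theorem rel19 : U.rel 9 [26, 16, 25, 15] 0 9 = true := by decide +kernel

theorem rel20 : U.rel 9 [25, 17, 25, 17] 0 9 = true := by decide +kernel

theorem gr24 : sub M23 (U.growI W1 [1, 2, 3, 4, 5, 6, 6, 4, 3, 2, 1, 0, 2, 3, 4, 5, 6, 6, 4] (Nat.shiftLeft 1 0)) = true := by decide +kernel

theorem cl26 : band (U.closedW W1 M23) (sub (Nat.shiftLeft 1 0) M23) = true := by decide +kernel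

theorem sz27 : sizeOk 9 M23 275 = true := by decide +kernel

theorem fx29 : U.closedW W2 (Nat.shiftLeft 1 0) = true := by decide +kernel

theorem uok13 : Net.okb 9 un13 = true := by decide +kernel

theorem rel30 : U.rel 9 [27, 11, 13, 9, 13, 13, 1, 9] 0 9 = true := by decide +kernel

theorem uok14 : Net.okb 9 un14 = true := by decide +kernel

theorem rel31 : U.rel 9 [29, 11, 9, 7, 13, 13, 9, 13, 11, 9, 1, 11, 1, 9, 1, 9, 1, 7, 13, 7, 1, 7, 9, 11, 9, 1, 11, 7] 0 9 = true := by decide +kernel

theorem gr33 : sub M32 (U.growI W2 [1, 2, 3, 4, 4, 2, 1, 0, 1, 2, 3, 4, 2, 1, 0, 1, 2] (Nat.shiftLeft 1 1)) = true := by decide +kernel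

theorem cl35 : band (U.closedW W2 M32) (sub (Nat.shiftLeft 1 1) M32) = true := by decide +kernel

theorem sz36 : sizeOk 9 M32 162 = true := by decide +kernel

theorem fx39 : U.closedW W38 (Nat.shiftLeft 1 1) = true := by decide +kernel

theorem uok15 : Net.okb 9 un15 = true := by decide +kernel

theorem rel40 : U.rel 9 [31, 29, 27, 29, 29, 29, 27, 29, 27, 29, 27, 27] 0 9 = true := by decide +kernel

theorem uok16 : Net.okb 9 un16 = true := by decide +kernel

theorem rel41 : U.rel 9 [33, 27, 29, 29, 29, 27, 29, 27, 27, 29, 27, 27, 27, 27, 27, 27, 27, 29, 29, 27, 29, 27, 27, 29, 29, 29, 27, 29, 27, 27, 27, 27, 29, 29, 29, 27, 27, 29] 0 9 = true := by decide +kernel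

theorem uok17 : Net.okb 9 un17 = true := by decide +kernel

theorem rel42 : U.rel 9 [35, 29, 27, 29, 27, 27, 27, 29, 27, 27, 29, 27, 29, 29, 29, 29, 29, 29, 29, 29, 29, 29, 29, 27, 27, 29, 27, 27, 27, 29, 27, 27, 29, 27, 27, 27, 27, 27, 27, 27, 29, 27, 29, 27, 27, 29, 27, 27] 0 9 = true := by decide +kernel

theorem gr44 : sub M43 (U.growI W38 [0, 1, 1, 0, 0, 1, 1, 0, 0, 1, 1, 0, 0, 1] (Nat.shiftLeft 1 4)) = true := by decide +kernel

theorem cl46 : band (U.closedW W38 M43) (sub (Nat.shiftLeft 1 4) M43) = true := by decide +kernel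

theorem sz47 : sizeOk 9 M43 105 = true := by decide +kernel

theorem fx50 : U.closedW W49 (Nat.shiftLeft 1 4) = true := by decide +kernel

theorem gr52 : sub M51 (U.growI W49 [1, 2, 2, 1, 0, 0, 1] (Nat.shiftLeft 1 202)) = true := by decide +kernel

theorem cl54 : band (U.closedW W49 M51) (sub (Nat.shiftLeft 1 202) M51) = true := by decide +kernel

theorem sz55 : sizeOk 9 M51 16 = true := by decide +kernel

theorem fx58 : U.closedW W57 (Nat.shiftLeft 1 202) = true := by decide +kernel

theorem gr60 : sub M59 (U.growI W57 [0, 1, 1, 0, 0] (Nat.shiftLeft 1 2)) = true := by decide +kernel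

theorem cl62 : band (U.closedW W57 M59) (sub (Nat.shiftLeft 1 2) M59) = true := by decide +kernel

theorem sz63 : sizeOk 9 M59 12 = true := by decide +kernel

theorem uok18 : Net.okb 9 un18 = true := by decide +kernel

theorem rel69 : U.rel 9 [37, 25, 23, 21, 25, 15, 23, 15, 21, 25] 0 9 = true := by decide +kernel

theorem uok19 : Net.okb 9 un19 = true := by decide +kernel

theorem rel70 : U.rel 9 [39, 21, 25, 25, 23, 23, 25, 23, 21, 19, 25, 21, 19, 15, 19, 19, 19, 23] 0 9 = true := by decide +kernel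

theorem gr72 : sub M71 (U.growI W21 [0, 1, 2, 3, 4, 4, 3] (Nat.shiftLeft 1 0)) = true := by decide +kernel

theorem cl74 : band (U.closedW W21 M71) (sub (Nat.shiftLeft 1 0) M71) = true := by decide +kernel

theorem sz75 : sizeOk 9 M71 27 = true := by decide +kernel

theorem fx78 : U.closedW W77 (Nat.shiftLeft 1 0) = true := by decide +kernel

theorem gr80 : sub M79 (U.growI W77 [0, 1, 1, 0] (Nat.shiftLeft 1 1)) = true := by decide +kernel

theorem cl82 : band (U.closedW W77 M79) (sub (Nat.shiftLeft 1 1) M79) = true := by decide +kernel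

theorem sz83 : sizeOk 9 M79 9 = true := by decide +kernel

theorem uok20 : Net.okb 9 un20 = true := by decide +kernel

theorem rel86 : U.rel 9 [41, 19, 13, 19, 19, 19, 19, 15, 19, 15, 15] 0 9 = true := by decide +kernel

theorem uok21 : Net.okb 9 un21 = true := by decide +kernel

theorem rel87 : U.rel 9 [43, 19, 15, 13, 19, 19, 19, 19, 13, 15, 19, 15, 13, 15, 15, 19, 19, 19, 13, 15] 0 9 = true := by decide +kernel

theorem gr89 : sub M88 (U.growI W22 [1, 2, 2, 1, 0, 0, 1, 2, 2, 1, 0, 0, 1, 2, 2, 1] (Nat.shiftLeft 1 0)) = true := by decide +kernel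

theorem cl91 : band (U.closedW W22 M88) (sub (Nat.shiftLeft 1 0) M88) = true := by decide +kernel

theorem sz92 : sizeOk 9 M88 275 = true := by decide +kernel

theorem fx95 : U.closedW W94 (Nat.shiftLeft 1 0) = true := by decide +kernel

theorem uok22 : Net.okb 9 un22 = true := by decide +kernel

theorem rel96 : U.rel 9 [45, 41, 41, 41, 43, 43, 41, 43, 41, 43, 43, 43, 41, 41] 0 9 = true := by decide +kernel

theorem uok23 : Net.okb 9 un23 = true := by decide +kernel

theorem rel97 : U.rel 9 [47, 41, 43, 41, 41, 41, 41, 41, 41, 41, 41, 41, 41, 41, 43, 41, 43, 43, 41, 41, 43, 41, 43, 43, 41, 43, 41, 43, 41, 43, 43, 43, 43, 41] 0 9 = true := by decide +kernel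

theorem gr99 : sub M98 (U.growI W94 [0, 1, 1, 0, 0, 1, 1, 0, 0, 1, 1, 0, 0, 1, 1] (Nat.shiftLeft 1 1)) = true := by decide +kernel

theorem cl101 : band (U.closedW W94 M98) (sub (Nat.shiftLeft 1 1) M98) = true := by decide +kernel

theorem sz102 : sizeOk 9 M98 162 = true := by decide +kernel

theorem fx105 : U.closedW W104 (Nat.shiftLeft 1 1) = true := by decide +kernel

theorem uok24 : Net.okb 9 un24 = true := by decide +kernel

theorem rel106 : U.rel 9 [49, 47, 47, 45, 47, 45, 47, 45, 47, 45, 47, 47, 45, 45, 45] 0 9 = true := by decide +kernel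

theorem uok25 : Net.okb 9 un25 = true := by decide +kernel

theorem rel107 : U.rel 9 [51, 45, 47, 45, 45, 47, 47, 45, 47, 47, 47, 45, 45, 45, 47, 45, 47, 47, 47, 45, 45, 47, 45, 47, 47, 47, 47, 45, 47, 47, 45, 45, 45] 0 9 = true := by decide +kernel

theorem uok26 : Net.okb 9 un26 = true := by decide +kernel

theorem rel108 : U.rel 9 [53, 47, 45, 45, 47, 45, 45, 47, 47, 45, 45, 47, 47, 45, 47, 47, 47, 47, 47, 45, 45, 47, 45, 45, 45, 47, 47, 45, 47, 45, 47, 47, 47, 47] 0 9 = true := by decide +kernel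

theorem gr110 : sub M109 (U.growI W104 [0, 1, 1, 0, 0, 1, 1, 0, 0, 1, 1, 0, 0, 1] (Nat.shiftLeft 1 4)) = true := by decide +kernel

theorem cl112 : band (U.closedW W104 M109) (sub (Nat.shiftLeft 1 4) M109) = true := by decide +kernel

theorem sz113 : sizeOk 9 M109 105 = true := by decide +kernel

theorem fx116 : U.closedW W115 (Nat.shiftLeft 1 4) = true := by decide +kernel

theorem gr118 : sub M117 (U.growI W115 [1, 2, 2, 1, 0, 1, 2] (Nat.shiftLeft 1 202)) = true := by decide +kernel

theorem cl120 : band (U.closedW W115 M117) (sub (Nat.shiftLeft 1 202) M117) = true := by decide +kernel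

theorem sz121 : sizeOk 9 M117 16 = true := by decide +kernel

theorem fx124 : U.closedW W123 (Nat.shiftLeft 1 202) = true := by decide +kernel

theorem gr126 : sub M125 (U.growI W123 [0, 1, 1, 0, 1] (Nat.shiftLeft 1 2)) = true := by decide +kernel

theorem cl128 : band (U.closedW W123 M125) (sub (Nat.shiftLeft 1 2) M125) = true := by decide +kernel

theorem sz129 : sizeOk 9 M125 12 = true := by decide +kernel

end Cfsg.Agent.Spor.McB.L
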