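import Cfsg.Agent.Spor.Prim
import Cfsg.Agent.Spor.McB.Main
import Cfsg.Agent.Spor.McB.L.C0
import Cfsg.Agent.Spor.TT2

set_option autoImplicit false
set_option maxRecDepth 100000000
set_option Elab.async false

namespace Cfsg.Agent.Spor.McB.L

theorem hU : U.Ok 9 := U.ok_of 9 (show AllP (fun n => Net.okb 9 n = true) [n0, n1, n2, n3, n4, n5, n6, un7, un8, un9, un10, un11, un12, un13, un14, un15, un16, un17, un18, un19, un20, un21, un22, un23, un24, un25, un26] from AllP.cons ok0 (AllP.cons ok1 (AllP.cons ok2 (AllP.cons ok3 (AllP.cons ok4 (AllP.cons ok5 (AllP.cons ok6 (AllP.cons uok7 (AllP.cons uok8 (AllP.cons uok9 (AllP.cons uok10 (AllP.cons uok11 (AllP.cons uok12 (AllP.cons uok13 (AllP.cons uok14 (AllP.cons uok15 (AllP.cons uok16 (AllP.cons uok17 (AllP.cons uok18 (AllP.cons uok19 (AllP.cons uok20 (AllP.cons uok21 (AllP.cons uok22 (AllP.cons uok23 (AllP.cons uok24 (AllP.cons uok25 (AllP.cons uok26 (AllP.nil))))))))))))))))))))))))))))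

theorem hfP : ∀ j < 7, U.fP [1, 3, 5, 7, 9, 11, 13] j = fP j := by
  intro j hj
  interval_cases j <;> rfl
theorem eG : gsub 7 fP = U.lsub W1 := (gsub_congr hfP).symm.trans (lsub_eq_gsub U [1, 3, 5, 7, 9, 11, 13])
theorem upz1 : ev (atm 7 fP) [0] = U.τ 1 := pz1
theorem upz3 : ev (atm 7 fP) [2] = U.τ 3 := pz2
theorem upz5 : ev (atm 7 fP) [4] = U.τ 5 := pz3
theorem upz7 : ev (atm 7 fP) [6] = U.τ 7 := pz4
theorem upz9 : ev (atm 7 fP) [8] = U.τ 9 := pz5
theorem upz11 : ev (atm 7 fP) [10] = U.τ 11 := pz6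
theorem upz13 : ev (atm 7 fP) [12] = U.τ 13 := pz7
theorem eH : wsub 7 fP BW = U.lsub W2 :=
  lsub_eq_of_all₂ (show List.Forall₂ _ [[0], [6], [8], [10], [12]] [[1], [7], [9], [11], [13]] from List.Forall₂.cons (upz1.trans (one_mul _).symm) (List.Forall₂.cons (upz7.trans (one_mul _).symm) (List.Forall₂.cons (upz9.trans (one_mul _).symm) (List.Forall₂.cons (upz11.trans (one_mul _).symm) (List.Forall₂.cons (upz13.trans (one_mul _).symm) (List.Forall₂.nil))))))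
theorem vpz1 : PZ U (atm 7 fP) EXU 1 := pz1
theorem vpz2 : PZ U (atm 7 fP) EXU 2 := PZ.of_inv hiv vpz1 (by decide +kernel)
theorem vpz3 : PZ U (atm 7 fP) EXU 3 := pz2
theorem vpz4 : PZ U (atm 7 fP) EXU 4 := PZ.of_inv hiv vpz3 (by decide +kernel)
theorem vpz5 : PZ U (atm 7 fP) EXU 5 := pz3
theorem vpz6 : PZ U (atm 7 fP) EXU 6 := PZ.of_inv hiv vpz5 (by decide +kernel)
theorem vpz7 : PZ U (atm 7 fP) EXU 7 := pz4
theorem vpz8 : PZ U (atm 7 fP) EXU 8 := PZ.of_inv hiv vpz7 (by decide +kernel)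
theorem vpz9 : PZ U (atm 7 fP) EXU 9 := pz5
theorem vpz10 : PZ U (atm 7 fP) EXU 10 := PZ.of_inv hiv vpz9 (by decide +kernel)
theorem vpz11 : PZ U (atm 7 fP) EXU 11 := pz6
theorem vpz12 : PZ U (atm 7 fP) EXU 12 := PZ.of_inv hiv vpz11 (by decide +kernel)
theorem vpz13 : PZ U (atm 7 fP) EXU 13 := pz7
theorem vpz14 : PZ U (atm 7 fP) EXU 14 := PZ.of_inv hiv vpz13 (by decide +kernel)
theorem vpz15 : PZ U (atm 7 fP) EXU 15 := PZ.of_def hiv (d := [1, 9, 3, 14, 5, 7]) (AllP.cons vpz1 (AllP.cons vpz9 (AllP.cons vpz3 (AllP.cons vpz14 (AllP.cons vpz5 (AllP.cons vpz7 (AllP.nil))))))) (hU.one rel3) (by decide +kernel)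
theorem vpz16 : PZ U (atm 7 fP) EXU 16 := PZ.of_inv hiv vpz15 (by decide +kernel)
theorem vpz17 : PZ U (atm 7 fP) EXU 17 := PZ.of_def hiv (d := [3, 5, 3, 5]) (AllP.cons vpz3 (AllP.cons vpz5 (AllP.cons vpz3 (AllP.cons vpz5 (AllP.nil))))) (hU.one rel4) (by decide +kernel)
theorem vpz18 : PZ U (atm 7 fP) EXU 18 := PZ.of_inv hiv vpz17 (by decide +kernel)
theorem vpz19 : PZ U (atm 7 fP) EXU 19 := PZ.of_def hiv (d := [5, 9, 5, 11, 7, 9, 1, 9, 7, 11, 9]) (AllP.cons vpz5 (AllP.cons vpz9 (AllP.cons vpz5 (AllP.cons vpz11 (AllP.cons vpz7 (AllP.cons vpz9 (AllP.cons vpz1 (AllP.cons vpz9 (AllP.cons vpz7 (AllP.cons vpz11 (AllP.cons vpz9 (AllP.nil)))))))))))) (hU.one rel5) (by decide +kernel)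
theorem vpz20 : PZ U (atm 7 fP) EXU 20 := PZ.of_inv hiv vpz19 (by decide +kernel)
theorem vpz21 : PZ U (atm 7 fP) EXU 21 := PZ.of_def hiv (d := [14, 3, 7, 11, 7, 9, 7, 11, 3, 7, 13]) (AllP.cons vpz14 (AllP.cons vpz3 (AllP.cons vpz7 (AllP.cons vpz11 (AllP.cons vpz7 (AllP.cons vpz9 (AllP.cons vpz7 (AllP.cons vpz11 (AllP.cons vpz3 (AllP.cons vpz7 (AllP.cons vpz13 (AllP.nil)))))))))))) (hU.one rel6) (by decide +kernel)
theorem vpz22 : PZ U (atm 7 fP) EXU 22 := PZ.of_inv hiv vpz21 (by decide +kernel)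
theorem vpz23 : PZ U (atm 7 fP) EXU 23 := PZ.of_def hiv (d := [9, 3, 13, 11, 9, 7, 11, 7, 9, 1, 11, 13]) (AllP.cons vpz9 (AllP.cons vpz3 (AllP.cons vpz13 (AllP.cons vpz11 (AllP.cons vpz9 (AllP.cons vpz7 (AllP.cons vpz11 (AllP.cons vpz7 (AllP.cons vpz9 (AllP.cons vpz1 (AllP.cons vpz11 (AllP.cons vpz13 (AllP.nil))))))))))))) (hU.one rel7) (by decide +kernel)
theorem vpz24 : PZ U (atm 7 fP) EXU 24 := PZ.of_inv hiv vpz23 (by decide +kernel)
theorem vpz25 : PZ U (atm 7 fP) EXU 25 := PZ.of_def hiv (d := [11, 5, 9, 11, 7, 9, 5, 13, 7, 11, 9, 11]) (AllP.cons vpz11 (AllP.cons vpz5 (AllP.cons vpz9 (AllP.cons vpz11 (AllP.cons vpz7 (AllP.cons vpz9 (AllP.cons vpz5 (AllP.cons vpz13 (AllP.cons vpz7 (AllP.cons vpz11 (AllP.cons vpz9 (AllP.cons vpz11 (AllP.nil))))))))))))) (hU.one rel8) (by decide +kernel)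
theorem vpz26 : PZ U (atm 7 fP) EXU 26 := PZ.of_inv hiv vpz25 (by decide +kernel)
theorem hPZU : AllP (PZ U (atm 7 fP) EXU) LU :=
  show AllP (PZ U (atm 7 fP) EXU) [1, 2, 3, 4, 5, 6, 7, 8, 9, 10, 11, 12, 13, 14, 15, 16, 17, 18, 19, 20, 21, 22, 23, 24, 25, 26] from AllP.cons vpz1 (AllP.cons vpz2 (AllP.cons vpz3 (AllP.cons vpz4 (AllP.cons vpz5 (AllP.cons vpz6 (AllP.cons vpz7 (AllP.cons vpz8 (AllP.cons vpz9 (AllP.cons vpz10 (AllP.cons vpz11 (AllP.cons vpz12 (AllP.cons vpz13 (AllP.cons vpz14 (AllP.cons vpz15 (AllP.cons vpz16 (AllP.cons vpz17 (AllP.cons vpz18 (AllP.cons vpz19 (AllP.cons vpz20 (AllP.cons vpz21 (AllP.cons vpz22 (AllP.cons vpz23 (AllP.cons vpz24 (AllP.cons vpz25 (AllP.cons vpz26 (AllP.nil))))))))))))))))))))))))))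
theorem hXQ : ∀ l ∈ XQ, ev (atm 7 fP) l = 1 :=
  relAll_sound hiv (W := [[19, 19, 19], [20, 16, 19, 15], [19, 17, 19, 17], [21, 21, 21], [22, 16, 21, 15], [21, 17, 21, 17], [23, 23, 23], [24, 16, 23, 15], [23, 17, 23, 17], [25, 25, 25], [26, 16, 25, 15], [25, 17, 25, 17]]) (rules := [⟨[19, 19, 19], [], 0, true⟩, ⟨[20, 16, 19, 15], [], 1, true⟩, ⟨[19, 17, 19, 17], [], 2, true⟩, ⟨[21, 21, 21], [], 3, true⟩, ⟨[22, 16, 21, 15], [], 4, true⟩, ⟨[21, 17, 21, 17], [], 5, true⟩, ⟨[23, 23, 23], [], 6, true⟩, ⟨[24, 16, 23, 15], [], 7, true⟩, ⟨[23, 17, 23, 17], [], 8, true⟩, ⟨[25, 25, 25], [], 9, true⟩, ⟨[26, 16, 25, 15], [], 10, true⟩, ⟨[25, 17, 25, 17], [], 11, true⟩]) hPZU (AllP.cons (hU.one rel9) (AllP.cons (hU.one rel10) (AllP.cons (hU.one rel11) (AllP.cons (hU.one rel12) (AllP.cons (hU.one rel13) (AllP.cons (hU.one rel14) (AllP.cons (hU.one rel15) (AllP.cons (hU.one rel16) (AllP.cons (hU.one rel17) (AllP.cons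 (hU.one rel18) (AllP.cons (hU.one rel19) (AllP.cons (hU.one rel20) (AllP.nil))))))))))))) (by decide +kernel)
theorem eQ : wsub 7 fP [[0, 8, 2, 12, 4, 6], [4, 8, 4, 10, 6, 8, 0, 8, 6, 10, 8], [12, 2, 6, 10, 6, 8, 6, 10, 2, 6, 13], [8, 2, 13, 10, 8, 6, 10, 6, 8, 0, 10, 13], [10, 4, 8, 10, 6, 8, 4, 13, 6, 10, 8, 10]] = U.lsub W21 :=
  lsub_eq_of_all₂ (show List.Forall₂ _ [[0, 8, 2, 12, 4, 6], [4, 8, 4, 10, 6, 8, 0, 8, 6, 10, 8], [12, 2, 6, 10, 6, 8, 6, 10, 2, 6, 13], [8, 2, 13, 10, 8, 6, 10, 6, 8, 0, 10, 13], [10, 4, 8, 10, 6, 8, 4, 13, 6, 10, 8, 10]] [[15], [19], [21], [23], [25]] from List.Forall₂.cons ((show ev (atm 7 fP) [0, 8, 2, 12, 4, 6] = U.τ 15 from vpz15).trans (one_mul _).symm) (List.Forall₂.cons ((show ev (atm 7 fP) [4, 8, 4, 10, 6, 8, 0, 8, 6, 10, 8] = U.τ 19 from vpz19).trans (one_mul _).symm) (List.Forall₂.cons ((show ev (atm 7 fP) [12, 2, 6, 10, 6, 8, 6, 10, 2, 6, 13] = U.τ 21 from vpz21).trans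 (one_mul _).symm) (List.Forall₂.cons ((show ev (atm 7 fP) [8, 2, 13, 10, 8, 6, 10, 6, 8, 0, 10, 13] = U.τ 23 from vpz23).trans (one_mul _).symm) (List.Forall₂.cons ((show ev (atm 7 fP) [10, 4, 8, 10, 6, 8, 4, 13, 6, 10, 8, 10] = U.τ 25 from vpz25).trans (one_mul _).symm) (List.Forall₂.nil))))))
theorem eJ : wsub 7 fP [[12], [0, 8, 2, 12, 4, 6], [4, 8, 4, 10, 6, 8, 0, 8, 6, 10, 8]] = U.lsub W22 :=
  lsub_eq_of_all₂ (show List.Forall₂ _ [[12], [0, 8, 2, 12, 4, 6], [4, 8, 4, 10, 6, 8, 0, 8, 6, 10, 8]] [[13], [15], [19]] from List.Forall₂.cons ((show ev (atm 7 fP) [12] = U.τ 13 from vpz13).trans (one_mul _).symm) (List.Forall₂.cons ((show ev (atm 7 fP) [0, 8, 2, 12, 4, 6] = U.τ 15 from vpz15).trans (one_mul _).symm) (List.Forall₂.cons ((show ev (atm 7 fP) [4, 8, 4, 10, 6, 8, 0, 8, 6, 10, 8] = U.τ 19 from vpz19).trans (one_mul _).symm) (List.Forall₂.nil))))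
theorem reach25 : Reach (U.lsub W1) 0 M23 := (Reach.grow hU (Reach.base _ 0) gr24)
theorem orb28 : (orbS (U.lsub W1) 0).ncard = 275 := reach25.ncard hU cl26 sz27
theorem orb28e : orbS (U.lsub W1) 0 = {c | Nat.testBit M23 c = true} := reach25.orb hU cl26
theorem reach34 : Reach (U.lsub W2) 1 M32 := (Reach.grow hU (Reach.base _ 1) gr33)
theorem orb37 : (orbS (U.lsub W2) 1).ncard = 162 := reach34.ncard hU cl35 sz36
theorem orb37e : orbS (U.lsub W2) 1 = {c | Nat.testBit M32 c = true} := reach34.orb hU cl35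
theorem reach45 : Reach (U.lsub W38) 4 M43 := (Reach.grow hU (Reach.base _ 4) gr44)
theorem orb48 : (orbS (U.lsub W38) 4).ncard = 105 := reach45.ncard hU cl46 sz47
theorem orb48e : orbS (U.lsub W38) 4 = {c | Nat.testBit M43 c = true} := reach45.orb hU cl46
theorem reach53 : Reach (U.lsub W49) 202 M51 := (Reach.grow hU (Reach.base _ 202) gr52)
theorem orb56 : (orbS (U.lsub W49) 202).ncard = 16 := reach53.ncard hU cl54 sz55
theorem orb56e : orbS (U.lsub W49) 202 = {c | Nat.testBit M51 c = true} := reach53.orb hU cl54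
theorem reach61 : Reach (U.lsub W57) 2 M59 := (Reach.grow hU (Reach.base _ 2) gr60)
theorem orb64 : (orbS (U.lsub W57) 2).ncard = 12 := reach61.ncard hU cl62 sz63
theorem orb64e : orbS (U.lsub W57) 2 = {c | Nat.testBit M59 c = true} := reach61.orb hU cl62
theorem lb65 : 12 ∣ Nat.card (U.lsub W57) := dvd_card_orb orb64
theorem lb66 : 192 ∣ Nat.card (U.lsub W49) :=
  dvd_card_step (s := 16) (M := 12) (B := U.lsub W57) (U.lsub_sub (by decide)) (hU.fixes fx58) orb56 lb65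
theorem lb67 : 20160 ∣ Nat.card (U.lsub W38) :=
  dvd_card_step (s := 105) (M := 192) (B := U.lsub W49) (Tab.lsub_le_all (AllP.cons (mem_of_rel (hU.one rel40) (U.mem_letters (by decide))) (AllP.cons (mem_of_rel (hU.one rel41) (U.mem_letters (by decide))) (AllP.cons (mem_of_rel (hU.one rel42) (U.mem_letters (by decide))) (AllP.nil))))) (hU.fixes fx50) orb48 lb66
theorem lb68 : 3265920 ∣ Nat.card (U.lsub W2) :=
  dvd_card_step (s := 162) (M := 20160) (B := U.lsub W38) (Tab.lsub_le_all (AllP.cons (mem_of_rel (hU.one rel30) (U.mem_letters (by decide))) (AllP.cons (mem_of_rel (hU.one rel31) (U.mem_letters (by decide))) (AllP.nil)))) (hU.fixes fx39) orb37 lb67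
theorem lb : 898128000 ∣ Nat.card (U.lsub W1) :=
  dvd_card_step (s := 275) (M := 3265920) (B := U.lsub W2) (U.lsub_sub (by decide)) (hU.fixes fx29) orb28 lb68
theorem reach73 : Reach (U.lsub W21) 0 M71 := (Reach.grow hU (Reach.base _ 0) gr72)
theorem orb76 : (orbS (U.lsub W21) 0).ncard = 27 := reach73.ncard hU cl74 sz75
theorem orb76e : orbS (U.lsub W21) 0 = {c | Nat.testBit M71 c = true} := reach73.orb hU cl74
theorem reach81 : Reach (U.lsub W77) 1 M79 := (Reach.grow hU (Reach.base _ 1) gr80)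
theorem orb84 : (orbS (U.lsub W77) 1).ncard = 9 := reach81.ncard hU cl82 sz83
theorem orb84e : orbS (U.lsub W77) 1 = {c | Nat.testBit M79 c = true} := reach81.orb hU cl82
theorem lbQ85 : 9 ∣ Nat.card (U.lsub W77) := dvd_card_orb orb84
theorem lbQ : 243 ∣ Nat.card (U.lsub W21) :=
  dvd_card_step (s := 27) (M := 9) (B := U.lsub W77) (Tab.lsub_le_all (AllP.cons (mem_of_rel (hU.one rel69) (U.mem_letters (by decide))) (AllP.cons (mem_of_rel (hU.one rel70) (U.mem_letters (by decide))) (AllP.nil)))) (hU.fixes fx78) orb76 lbQ85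
theorem reach90 : Reach (U.lsub W22) 0 M88 := (Reach.grow hU (Reach.base _ 0) gr89)
theorem orb93 : (orbS (U.lsub W22) 0).ncard = 275 := reach90.ncard hU cl91 sz92
theorem orb93e : orbS (U.lsub W22) 0 = {c | Nat.testBit M88 c = true} := reach90.orb hU cl91
theorem reach100 : Reach (U.lsub W94) 1 M98 := (Reach.grow hU (Reach.base _ 1) gr99)
theorem orb103 : (orbS (U.lsub W94) 1).ncard = 162 := reach100.ncard hU cl101 sz102
theorem orb103e : orbS (U.lsub W94) 1 = {c | Nat.testBit M98 c = true} := reach100.orb hU cl101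
theorem reach111 : Reach (U.lsub W104) 4 M109 := (Reach.grow hU (Reach.base _ 4) gr110)
theorem orb114 : (orbS (U.lsub W104) 4).ncard = 105 := reach111.ncard hU cl112 sz113
theorem orb114e : orbS (U.lsub W104) 4 = {c | Nat.testBit M109 c = true} := reach111.orb hU cl112
theorem reach119 : Reach (U.lsub W115) 202 M117 := (Reach.grow hU (Reach.base _ 202) gr118)
theorem orb122 : (orbS (U.lsub W115) 202).ncard = 16 := reach119.ncard hU cl120 sz121
theorem orb122e : orbS (U.lsub W115) 202 = {c | Nat.testBit M117 c = true} := reach119.orb hU cl120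
theorem reach127 : Reach (U.lsub W123) 2 M125 := (Reach.grow hU (Reach.base _ 2) gr126)
theorem orb130 : (orbS (U.lsub W123) 2).ncard = 12 := reach127.ncard hU cl128 sz129
theorem orb130e : orbS (U.lsub W123) 2 = {c | Nat.testBit M125 c = true} := reach127.orb hU cl128
theorem lbJ131 : 12 ∣ Nat.card (U.lsub W123) := dvd_card_orb orb130
theorem lbJ132 : 192 ∣ Nat.card (U.lsub W115) :=
  dvd_card_step (s := 16) (M := 12) (B := U.lsub W123) (U.lsub_sub (by decide)) (hU.fixes fx124) orb122 lbJ131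
theorem lbJ133 : 20160 ∣ Nat.card (U.lsub W104) :=
  dvd_card_step (s := 105) (M := 192) (B := U.lsub W115) (Tab.lsub_le_all (AllP.cons (mem_of_rel (hU.one rel106) (U.mem_letters (by decide))) (AllP.cons (mem_of_rel (hU.one rel107) (U.mem_letters (by decide))) (AllP.cons (mem_of_rel (hU.one rel108) (U.mem_letters (by decide))) (AllP.nil))))) (hU.fixes fx116) orb114 lbJ132
theorem lbJ134 : 3265920 ∣ Nat.card (U.lsub W94) :=
  dvd_card_step (s := 162) (M := 20160) (B := U.lsub W104) (Tab.lsub_le_all (AllP.cons (mem_of_rel (hU.one rel96) (U.mem_letters (by decide))) (AllP.cons (mem_of_rel (hU.one rel97) (U.mem_letters (by decide))) (AllP.nil)))) (hU.fixes fx105) orb103 lbJ133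
theorem lbJ : 898128000 ∣ Nat.card (U.lsub W22) :=
  dvd_card_step (s := 275) (M := 3265920) (B := U.lsub W94) (Tab.lsub_le_all (AllP.cons (mem_of_rel (hU.one rel86) (U.mem_letters (by decide))) (AllP.cons (mem_of_rel (hU.one rel87) (U.mem_letters (by decide))) (AllP.nil)))) (hU.fixes fx95) orb93 lbJ134

end Cfsg.Agent.Spor.McB.L
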